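import Cfsg.Agent.H45.FX.Norm

/-!
# S5242, local theorem, L2: the filtration by `p ^ n D` and the norm lemma (helper258)
-/

set_option autoImplicit false
set_option linter.unusedSectionVars false

namespace Cfsg.Agent.H258.FX

open Pointwise
open Cfsg.Agent.H45.FX

variable {G : Type*} [Group G] {D : Type*} [AddCommGroup D] [DistribMulAction G D]

/-! ### fixed points -/

theorem mem_Fx_iff_le {R : Subgroup G} {x : D} : x ∈ (Fx R : AddSubgroup D) ↔ R ≤ MulAction.stabilizer G x :=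
  Iff.rfl

theorem smul_mem_Fx {R : Subgroup G} {x : D} (hx : x ∈ (Fx R : AddSubgroup D)) (g : G) :
    g • x ∈ (Fx (MulAut.conj g • R) : AddSubgroup D) := by
  intro r hr
  have h1 : g⁻¹ * r * g ∈ R := by
    have := Subgroup.mem_pointwise_smul_iff_inv_smul_mem.1 hr
    simpa [mul_assoc] using this
  calc r • g • x = g • (g⁻¹ * r * g) • x := by rw [smul_smul, smul_smul]; congr 1; group
    _ = g • x := by rw [hx _ h1]

/-! ### `p ^ n D` -/

/-- `p ^ n D` -/
def pU (D : Type*) [AddCommGroup D] (p n : ℕ) : AddSubgroup D := (nsmulAddMonoidHom (p ^ n) : D →+ D).range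

theorem mem_pU {p n : ℕ} {x : D} : x ∈ pU D p n ↔ ∃ d : D, p ^ n • d = x := Iff.rfl

theorem pU_zero (p : ℕ) : pU D p 0 = ⊤ := by
  rw [eq_top_iff]
  intro x _
  exact ⟨x, by simp⟩

theorem pU_smul {p n : ℕ} (g : G) {x : D} (hx : x ∈ pU D p n) : g • x ∈ pU D p n := by
  obtain ⟨d, hd⟩ := mem_pU.1 hx
  rw [← hd]
  exact mem_pU.2 ⟨g • d, (map_nsmul (DistribSMul.toAddMonoidHom D g) (p ^ n) d).symm⟩

theorem p_smul_mem {p n : ℕ} {x : D} (hx : x ∈ pU D p n) : p • x ∈ pU D p (n + 1) := by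
  obtain ⟨d, hd⟩ := mem_pU.1 hx
  rw [← hd]
  exact mem_pU.2 ⟨d, by rw [pow_succ', mul_smul]⟩

theorem pU_succ_le (p n : ℕ) : pU D p (n + 1) ≤ pU D p n := by
  intro x hx
  obtain ⟨d, hd⟩ := mem_pU.1 hx
  refine mem_pU.2 ⟨p • d, ?_⟩
  rw [← hd, pow_succ, mul_smul]

/-! ### an element of `p`-power order fixing a subgroup of index at most `p` -/

section triv

variable {p : ℕ} [hp : Fact p.Prime] [Finite D]

theorem card_range_le {c : G} {K : AddSubgroup D} (hK : ∀ d ∈ K, c • d = d) (hi : K.index ≤ p) :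
    Nat.card ((DistribSMul.toAddMonoidHom D c - AddMonoidHom.id D).range) ≤ p := by
  rw [← AddSubgroup.index_ker]
  refine le_trans ?_ hi
  apply Nat.le_of_dvd (Nat.pos_of_ne_zero AddSubgroup.FiniteIndex.index_ne_zero)
  apply AddSubgroup.index_dvd_of_le
  intro d hd
  rw [AddMonoidHom.mem_ker]
  show c • d - d = 0
  rw [hK d hd, sub_self]

theorem smul_diff {c : G} (hc : IsPGroup p (Subgroup.zpowers c)) {K : AddSubgroup D} (hK : ∀ d ∈ K, c • d = d)
    (hi : K.index ≤ p) (d : D) : c • (c • d - d) = c • d - d := by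
  set W := (DistribSMul.toAddMonoidHom D c - AddMonoidHom.id D).range with hW
  have hWc : Nat.card W ≤ p := card_range_le hK hi
  have hst : ∀ w ∈ W, c • w ∈ W := by
    rintro _ ⟨y, rfl⟩
    refine ⟨c • y, ?_⟩
    show c • c • y - c • y = c • (c • y - y)
    rw [smul_sub]
  have hst' : ∀ w ∈ W, c⁻¹ • w ∈ W := by
    rintro _ ⟨y, rfl⟩
    refine ⟨c⁻¹ • y, ?_⟩
    show c • c⁻¹ • y - c⁻¹ • y = c⁻¹ • (c • y - y)
    rw [smul_sub, smul_smul, smul_smul, mul_inv_cancel, inv_mul_cancel]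
  have hstz : ∀ g ∈ Subgroup.zpowers c, ∀ w ∈ W, g • w ∈ W := by
    rintro g ⟨k, rfl⟩
    induction k using Int.induction_on with
    | zero => intro w hw; simpa using hw
    | succ k ih =>
      intro w hw
      show c ^ ((k : ℤ) + 1) • w ∈ W
      rw [zpow_add_one, mul_smul]
      exact ih _ (hst w hw)
    | pred k ih =>
      intro w hw
      show c ^ (-(k : ℤ) - 1) • w ∈ W
      rw [zpow_sub_one, mul_smul]
      exact ih _ (hst' w hw)
  have hdW : c • d - d ∈ W := ⟨d, rfl⟩
  set v := c • d - d with hv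
  by_cases hv0 : v = 0
  · rw [hv0, smul_zero]
  obtain ⟨n, hn⟩ := hc.card_orbit v
  have hsub : MulAction.orbit (Subgroup.zpowers c) v ⊆ (W : Set D) \ {0} := by
    rintro _ ⟨g, rfl⟩
    refine ⟨hstz g g.2 v hdW, ?_⟩
    intro h0
    apply hv0
    have h1 : (g : G) • v = 0 := h0
    calc v = (g : G)⁻¹ • (g : G) • v := by rw [smul_smul, inv_mul_cancel, one_smul]
      _ = 0 := by rw [h1, smul_zero]
  have hcard : Nat.card (MulAction.orbit (Subgroup.zpowers c) v) < p := by
    have h1 : Nat.card (MulAction.orbit (Subgroup.zpowers c) v) ≤ Nat.card ((W : Set D) \ {0} : Set D) :=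
      Nat.card_mono (Set.toFinite _) hsub
    have h2 : Nat.card ((W : Set D) \ {0} : Set D) < Nat.card (W : Set D) := by
      apply Set.ncard_lt_ncard
      · refine ⟨Set.sdiff_subset, fun h => ?_⟩
        exact (h (zero_mem W)).2 rfl
      · exact Set.toFinite _
    exact lt_of_le_of_lt h1 (lt_of_lt_of_le h2 hWc)
  have hn0 : n = 0 := by
    by_contra hne
    rw [hn] at hcard
    exact absurd (Nat.le_self_pow hne p) (not_le.2 hcard)
  rw [hn0, pow_zero] at hn
  have h3 : (⟨c, Subgroup.mem_zpowers c⟩ : Subgroup.zpowers c) • v = v := by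
    have h4 : (⟨c, Subgroup.mem_zpowers c⟩ : Subgroup.zpowers c) • v ∈ MulAction.orbit (Subgroup.zpowers c) v :=
      ⟨_, rfl⟩
    have h5 : v ∈ MulAction.orbit (Subgroup.zpowers c) v := MulAction.mem_orbit_self v
    obtain ⟨w, hw⟩ := Nat.card_eq_one_iff_exists.1 hn
    have h6 := hw ⟨_, h4⟩
    have h7 := hw ⟨_, h5⟩
    exact congrArg Subtype.val (h6.trans h7.symm)
  exact h3

theorem p_smul_diff (hD : ∀ d : D, ∃ k : ℕ, p ^ k • d = 0) {c : G} {K : AddSubgroup D} (hK : ∀ d ∈ K, c • d = d)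
    (hi : K.index ≤ p) (d : D) : p • (c • d - d) = 0 := by
  have hWc := card_range_le (p := p) hK hi
  set W := (DistribSMul.toAddMonoidHom D c - AddMonoidHom.id D).range with hW
  have hdW : c • d - d ∈ W := ⟨d, rfl⟩
  obtain ⟨k, hk⟩ := hD (c • d - d)
  have h1 : addOrderOf (c • d - d) ∣ p ^ k := addOrderOf_dvd_of_nsmul_eq_zero hk
  obtain ⟨j, -, hj⟩ := (Nat.dvd_prime_pow hp.out).1 h1
  have h2 : addOrderOf (c • d - d) ≤ p := by
    have h3 : addOrderOf (⟨c • d - d, hdW⟩ : W) ≤ Nat.card W := Nat.le_of_dvd Nat.card_pos (addOrderOf_dvd_natCard _)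
    rw [AddSubgroup.addOrderOf_mk] at h3
    exact h3.trans hWc
  have h4 : j ≤ 1 := by
    by_contra hcon
    rw [hj] at h2
    have : p ^ 2 ≤ p ^ j := Nat.pow_le_pow_right hp.out.pos (by omega)
    have h5 : p * p ≤ p := by rw [← pow_two]; exact this.trans h2
    have := hp.out.two_le
    nlinarith
  apply addOrderOf_dvd_iff_nsmul_eq_zero.1
  rw [hj]
  calc p ^ j ∣ p ^ 1 := Nat.pow_dvd_pow p h4
    _ = p := pow_one p

end triv

/-! ### index `p` -/

theorem le_sup_zpowers {p : ℕ} [hp : Fact p.Prime] {X B : Subgroup G} (hXB : X ≤ B) (hi : X.relIndex B = p) {c : G}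
    (hcB : c ∈ B) (hcX : c ∉ X) : B ≤ X ⊔ Subgroup.zpowers c := by
  have h1 : X ⊔ Subgroup.zpowers c ≤ B := sup_le hXB (by rwa [Subgroup.zpowers_le])
  have h2 := Subgroup.relIndex_mul_relIndex X (X ⊔ Subgroup.zpowers c) B le_sup_left h1
  rw [hi] at h2
  have h3 : X.relIndex (X ⊔ Subgroup.zpowers c) ∣ p := ⟨_, h2.symm⟩
  rcases (Nat.dvd_prime hp.out).1 h3 with h4 | h4
  · exfalso
    apply hcX
    rw [Subgroup.relIndex_eq_one] at h4
    exact h4 (Subgroup.mem_sup_right (Subgroup.mem_zpowers c))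
  · rw [h4] at h2
    have h5 : (X ⊔ Subgroup.zpowers c).relIndex B = 1 := by
      have := hp.out.pos
      nlinarith
    exact Subgroup.relIndex_eq_one.1 h5

theorem mem_Fx_of {p : ℕ} [hp : Fact p.Prime] {X B : Subgroup G} (hXB : X ≤ B) (hi : X.relIndex B = p) {c : G}
    (hcB : c ∈ B) (hcX : c ∉ X) (hX : ∀ x ∈ X, ∀ d : D, x • d = d) {d : D} (hd : c • d = d) :
    d ∈ (Fx B : AddSubgroup D) := by
  rw [mem_Fx_iff_le]
  refine (le_sup_zpowers hXB hi hcB hcX).trans (sup_le ?_ ?_)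
  · intro x hx
    exact hX x hx d
  · rw [Subgroup.zpowers_le]
    exact hd

theorem exists_index_p [Finite G] {p : ℕ} [hp : Fact p.Prime] {E B : Subgroup G} (hB : IsPGroup p B) (hEB : E < B) :
    ∃ E1, E ≤ E1 ∧ E1 ≤ B ∧ E1.relIndex B = p := by
  obtain ⟨m, hm⟩ := IsPGroup.iff_card.1 hB
  obtain ⟨n, hn⟩ := IsPGroup.iff_card.1 (hB.to_subgroup (E.subgroupOf B))
  have hlt : n < m := by
    have h1 : Nat.card (E.subgroupOf B) < Nat.card B := by
      rw [Nat.card_congr (Subgroup.subgroupOfEquivOfLe hEB.le).toEquiv]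
      exact Set.ncard_lt_ncard (show (E : Set G) ⊂ (B : Set G) from hEB) (Set.toFinite _)
    rw [hm, hn] at h1
    exact (Nat.pow_lt_pow_iff_right hp.out.one_lt).1 h1
  obtain ⟨K, hK, hEK⟩ := Sylow.exists_subgroup_card_pow_prime_le (p := p) (n := n) (m := m - 1)
    (by rw [hm]; exact Nat.pow_dvd_pow p (by omega)) (E.subgroupOf B) hn (by omega)
  refine ⟨K.map B.subtype, ?_, Subgroup.map_subtype_le K, ?_⟩
  · intro x hx
    exact ⟨⟨x, hEB.le hx⟩, hEK (Subgroup.mem_subgroupOf.2 hx), rfl⟩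
  · have h1 : (K.map B.subtype).subgroupOf B = K :=
      Subgroup.comap_map_eq_self_of_injective B.subtype_injective K
    have h2 : (K.map B.subtype).relIndex B = K.index := by rw [Subgroup.relIndex, h1]
    rw [h2]
    have h3 := K.card_mul_index
    rw [hK, hm] at h3
    have h4 : p ^ m = p ^ (m - 1) * p := by
      rw [← pow_succ]
      congr 1
      omega
    rw [h4] at h3
    exact Nat.eq_of_mul_eq_mul_left (Nat.pow_pos hp.out.pos) h3

theorem nm_eq_of_diff [Finite G] {p : ℕ} [hp : Fact p.Prime] (hp2 : p ≠ 2) {X B : Subgroup G} [hXn : X.Normal]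
    {w : D} (hw : w ∈ (Fx X : AddSubgroup D)) (hd : ∀ b ∈ B, b • w - w ∈ (Fx B : AddSubgroup D))
    (hpd : ∀ b ∈ B, p • (b • w - w) = 0) : nm X B w = X.relIndex B • w := by
  classical
  let _ : Fintype (B ⧸ X.subgroupOf B) := Fintype.ofFinite _
  let φ : B ⧸ X.subgroupOf B → D := fun q => ((Quotient.out q : B) : G) • w - w
  have key : ∀ b : B, φ (b : B ⧸ X.subgroupOf B) = (b : G) • w - w := by
    intro b
    obtain ⟨n, hn⟩ := QuotientGroup.mk_out_eq_mul (X.subgroupOf B) b
    have h1 : (Quotient.out (b : B ⧸ X.subgroupOf B) : B) = b * n := hn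
    show ((Quotient.out (b : B ⧸ X.subgroupOf B) : B) : G) • w - w = _
    rw [h1, Subgroup.coe_mul, mul_smul]
    have h2 : (((n : X.subgroupOf B) : B) : G) • w = w := hw _ (Subgroup.mem_subgroupOf.1 n.2)
    rw [h2]
  have hinv : ∀ q, φ q⁻¹ = - φ q := by
    intro q
    obtain ⟨b, rfl⟩ := QuotientGroup.mk_surjective q
    rw [← QuotientGroup.mk_inv, key, key, Subgroup.coe_inv]
    have h1 := hd b b.2
    have h2 := h1 (b : G)⁻¹ (inv_mem b.2)
    rw [← h2, smul_sub, smul_smul, inv_mul_cancel, one_smul]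
    abel
  have hS1 : ∑ q, φ q = - ∑ q, φ q := by
    rw [← Finset.sum_neg_distrib]
    rw [← Equiv.sum_comp (Equiv.inv (B ⧸ X.subgroupOf B)) φ]
    exact Finset.sum_congr rfl fun q _ => hinv q
  have hS2 : p • ∑ q, φ q = 0 := by
    rw [Finset.smul_sum]
    refine Finset.sum_eq_zero fun q _ => ?_
    exact hpd _ (Quotient.out q : B).2
  have hS : ∑ q, φ q = 0 := by
    have h1 : addOrderOf (∑ q, φ q) ∣ 2 := by
      apply addOrderOf_dvd_of_nsmul_eq_zero
      rw [two_nsmul]
      nth_rewrite 1 [hS1]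
      exact neg_add_cancel _
    have h2 : addOrderOf (∑ q, φ q) ∣ p := addOrderOf_dvd_of_nsmul_eq_zero hS2
    have h3 : Nat.Coprime 2 p := (Nat.coprime_primes Nat.prime_two hp.out).2 (Ne.symm hp2)
    have h4 : addOrderOf (∑ q, φ q) = 1 := Nat.eq_one_of_dvd_coprimes h3 h1 h2
    exact AddMonoid.addOrderOf_eq_one_iff.1 h4
  unfold nm
  rw [finsum_eq_sum_of_fintype]
  have h5 : ∀ q : B ⧸ X.subgroupOf B, ((Quotient.out q : B) : G) • w = w + φ q := by
    intro q
    show _ = w + (((Quotient.out q : B) : G) • w - w)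
    abel
  rw [Finset.sum_congr rfl fun q _ => h5 q, Finset.sum_add_distrib, hS, add_zero, Finset.sum_const,
    Finset.card_univ, ← Nat.card_eq_fintype_card]
  rfl

/-! ### the norm lemma -/

section norm

variable [Finite G] [Finite D] {p : ℕ} [hp : Fact p.Prime] {T X : Subgroup G} {Qf : Subgroup G → Prop}
  {M0 : Subgroup G → AddSubgroup D}

/-- differences lie in `Fx B` -/
theorem diff_mem_Fx (h : Loc p T X Qf M0) {B : Subgroup G} (hXB : X ≤ B) (hBT : B ≤ T) (hi : X.relIndex B = p)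
    (hix : (Fx B : AddSubgroup D).index ≤ p) {c : G} (hc : c ∈ B) (d : D) :
    c • d - d ∈ (Fx B : AddSubgroup D) := by
  by_cases hcX : c ∈ X
  · rw [h.X_triv c hcX, sub_self]
    exact zero_mem _
  · apply mem_Fx_of hXB hi hc hcX h.X_triv
    exact smul_diff (p := p) (h.T_p.to_le ((Subgroup.zpowers_le.2 hc).trans hBT))
      (K := (Fx B : AddSubgroup D)) (fun y hy => hy c hc) hix d

theorem eq_zero_or_of_card {W : AddSubgroup D} (hW : Nat.card W ≤ 2) {z v : D} (hz : z ∈ W) (hz0 : z ≠ 0)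
    (hv : v ∈ W) : v = 0 ∨ v = z := by
  by_contra hcon
  push Not at hcon
  have h1 : ({0, z, v} : Set D).ncard = 3 := Set.ncard_eq_three.2 ⟨0, z, v, hz0.symm, hcon.1.symm, hcon.2.symm, rfl⟩
  have h2 : ({0, z, v} : Set D) ⊆ (W : Set D) := by
    rintro x (rfl | rfl | rfl)
    · exact zero_mem W
    · exact hz
    · exact hv
  have h3 := Set.ncard_le_ncard h2 (Set.toFinite _)
  have h4 : (W : Set D).ncard = Nat.card W := rfl
  omega

theorem term_top (h : Loc p T X Qf M0) {n : ℕ} {B : Subgroup G} (hB : Qf B) (hBm : ∀ B', B' < B → ¬ Qf B')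
    (hi : X.relIndex B = p) (hix : (Fx B : AddSubgroup D).index ≤ p) {w : D} (hwU : w ∈ pU D p n) :
    nm X B w ∈ pU D p (n + 1) ∨ (p = 2 ∧ ∃ z, IsT2 X Qf B z ∧ nm X B w - z ∈ pU D p (n + 1)) := by
  obtain ⟨hXB, hBT⟩ := h.q_le B hB
  have hXn := h.X_norm
  have hwX : w ∈ (Fx X : AddSubgroup D) := fun x hx => h.X_triv x hx w
  by_cases hp2 : p = 2
  · subst hp2
    obtain ⟨c, hcB, hcX⟩ : ∃ c ∈ B, c ∉ X := by
      by_contra hcon
      push Not at hcon
      have : X.relIndex B = 1 := Subgroup.relIndex_eq_one.2 hcon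
      omega
    have hcz : IsPGroup 2 (Subgroup.zpowers c) := h.T_p.to_le ((Subgroup.zpowers_le.2 hcB).trans hBT)
    have hnm : nm X B w = 2 • w + (c • w - w) := by
      rw [nm_index_two hXB hi hwX hcB hcX, two_nsmul]
      abel
    have hcard := card_range_le (p := 2) (c := c) (K := (Fx B : AddSubgroup D)) (fun y hy => hy c hcB) hix
    by_cases htriv : ∀ y : D, c • y = y
    · left
      rw [hnm, htriv w, sub_self, add_zero]
      exact p_smul_mem hwU
    · push Not at htriv
      obtain ⟨y0, hy0⟩ := htriv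
      set z := c • y0 - y0 with hz
      have hz0 : z ≠ 0 := fun h0 => hy0 (sub_eq_zero.1 h0)
      have hzW : z ∈ (DistribSMul.toAddMonoidHom D c - AddMonoidHom.id D).range := ⟨y0, rfl⟩
      have hcase : ∀ y : D, c • y - y = 0 ∨ c • y - y = z := fun y =>
        eq_zero_or_of_card hcard hzW hz0 ⟨y, rfl⟩
      have hbc : ∀ b ∈ B, b ∉ X → ∀ y : D, b • y = c • y := by
        intro b hb hbX y
        have h1 : (X.subgroupOf B).index = 2 := hi
        have h2 := Subgroup.mul_mem_iff_of_index_two h1 (a := (⟨c, hcB⟩ : B)⁻¹) (b := ⟨b, hb⟩)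
        have h3 : c⁻¹ * b ∈ X := by
          have h4 : (⟨c, hcB⟩ : B)⁻¹ * ⟨b, hb⟩ ∈ X.subgroupOf B := by
            rw [h2]
            constructor
            · intro h5
              exact absurd (inv_mem_iff.1 h5) hcX
            · intro h5
              exact absurd h5 hbX
          exact h4
        calc b • y = c • (c⁻¹ * b) • y := by rw [smul_smul]; congr 1; group
          _ = c • y := by rw [h.X_triv _ h3]
      have hT2 : IsT2 X Qf B z := by
        refine ⟨hB, hBm, hi, hz0, p_smul_diff h.D_p (K := (Fx B : AddSubgroup D)) (fun y hy => hy c hcB) hix y0,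
          ?_, ?_⟩
        · intro b hb y
          by_cases hbX : b ∈ X
          · left; exact h.X_triv b hbX y
          · rw [hbc b hb hbX y]
            rcases hcase y with h1 | h1
            · left; exact sub_eq_zero.1 h1
            · right; rw [← h1]; abel
        · intro b hb hbX
          refine ⟨y0, ?_⟩
          rw [hbc b hb hbX y0, hz]
          abel
      rcases hcase w with h1 | h1
      · left
        rw [hnm, h1, add_zero]
        exact p_smul_mem hwU
      · right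
        refine ⟨rfl, z, hT2, ?_⟩
        rw [hnm, h1, add_sub_cancel_right]
        exact p_smul_mem hwU
  · left
    rw [nm_eq_of_diff hp2 hwX (fun b hb => diff_mem_Fx h hXB hBT hi hix hb w)
      (fun b hb => p_smul_diff h.D_p (K := (Fx B : AddSubgroup D)) (fun y hy => hy b hb) hix w), hi]
    exact p_smul_mem hwU

theorem term (h : Loc p T X Qf M0) (hH : HypH D p X Qf) {n : ℕ} {B E : Subgroup G} (hB : Qf B)
    (hBm : ∀ B', B' < B → ¬ Qf B') (hXE : X ≤ E) (hEB : E < B) {y : D} (hyU : y ∈ pU D p n)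
    (hy : y ∈ (Fx E : AddSubgroup D)) :
    nm E B y ∈ pU D p (n + 1) ∨ (p = 2 ∧ ∃ z, IsT2 X Qf B z ∧ nm E B y - z ∈ pU D p (n + 1)) := by
  obtain ⟨hXB, hBT⟩ := h.q_le B hB
  obtain ⟨E1, hE1, hE1B, hi⟩ := exists_index_p (h.T_p.to_le hBT) hEB
  have hw := nm_mem_Fx hE1 hy
  have hwU : nm E E1 y ∈ pU D p n := nm_mem_of_stable (fun g _ x hx => pU_smul g hx) hyU
  rw [nm_trans hE1 hE1B hy]
  have hE1lt : E1 < B := by
    refine lt_of_le_of_ne hE1B ?_
    rintro rfl
    rw [Subgroup.relIndex_self] at hi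
    exact hp.out.one_lt.ne hi
  rcases eq_or_lt_of_le (hXE.trans hE1) with hX1 | hX1
  · rw [← hX1] at hi hw hwU ⊢
    exact term_top h hB hBm hi (hH.ii B hB hBm hi) hwU
  · left
    have h1 := hH.i B hB hBm E1 hX1 hE1lt hi hw
    rw [nm_of_fixed hE1B h1, hi]
    exact p_smul_mem hwU

theorem IsT2.unique {B : Subgroup G} {z z' : D} (h : IsT2 X Qf B z) (h' : IsT2 X Qf B z') : z = z' := by
  obtain ⟨c, hcB, hcX⟩ : ∃ c ∈ B, c ∉ X := by
    by_contra hcon
    push Not at hcon
    have h1 : X.relIndex B = 1 := Subgroup.relIndex_eq_one.2 hcon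
    have := h.ind
    omega
  obtain ⟨y, hy⟩ := h.out c hcB hcX
  rcases h'.act c hcB y with h1 | h1
  · rw [hy] at h1
    exact absurd (add_eq_left.1 h1) h.ne
  · rw [hy] at h1
    exact add_left_cancel h1

/-- NORM LEMMA -/
theorem norm_lemma (h : Loc p T X Qf M0) (hH : HypH D p X Qf) (n : ℕ) {R P B : Subgroup G}
    (hXR : X ≤ R) (hRP : R ≤ P) (hR : ¬ Qf R) (hP : Qf P) {x : D} (hxU : x ∈ pU D p n)
    (hx : x ∈ (Fx R : AddSubgroup D)) (hBP : B ≤ P) (hB : Qf B) (hBm : ∀ B', B' < B → ¬ Qf B') :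
    nm R P x ∈ pU D p (n + 1) ∨ (p = 2 ∧ ∃ z, IsT2 X Qf B z ∧ nm R P x - z ∈ pU D p (n + 1)) := by
  have hXn := h.X_norm
  have hPT := (h.q_le P hP).2
  have hterm : ∀ g ∈ P, nm (B ⊓ MulAut.conj g • R) B (g • x) ∈ pU D p (n + 1) ∨
      (p = 2 ∧ ∃ z, IsT2 X Qf B z ∧ nm (B ⊓ MulAut.conj g • R) B (g • x) - z ∈ pU D p (n + 1)) := by
    intro g hg
    have hXg : X ≤ MulAut.conj g • R := by
      intro y hy
      rw [Subgroup.mem_pointwise_smul_iff_inv_smul_mem]
      apply hXR
      have := hXn.conj_mem y hy g⁻¹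
      simpa [mul_assoc] using this
    refine term h hH hB hBm (le_inf (h.q_le B hB).1 hXg) ?_ (pU_smul g hxU) ?_
    · refine lt_of_le_of_ne inf_le_left ?_
      intro heq
      have h1 : B ≤ MulAut.conj g • R := by rw [← heq]; exact inf_le_right
      apply hR
      have h2 : MulAut.conj g⁻¹ • B ≤ R := by
        intro y hy
        rw [Subgroup.mem_pointwise_smul_iff_inv_smul_mem] at hy
        have h3 := h1 hy
        rw [Subgroup.mem_pointwise_smul_iff_inv_smul_mem] at h3
        simpa [mul_assoc] using h3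
      exact h.q_up _ _ (h.q_conj g⁻¹ B hB (h2.trans (hRP.trans hPT))) h2 (hRP.trans hPT)
    · exact Fx_anti inf_le_right (smul_mem_Fx hx g)
  by_cases hz : p = 2 ∧ ∃ z : D, IsT2 X Qf B z
  · obtain ⟨hp2, z, hz⟩ := hz
    have h1 : nm R P x ∈ pU D p (n + 1) ⊔ AddSubgroup.zmultiples z := by
      apply nm_mem_of_double hRP hBP hx
      intro g hg
      rcases hterm g hg with h2 | ⟨-, z', hz', h2⟩
      · exact (le_sup_left : pU D p (n + 1) ≤ _) h2
      · rw [IsT2.unique hz' hz] at h2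
        have h3 : nm (B ⊓ MulAut.conj g • R) B (g • x) =
            (nm (B ⊓ MulAut.conj g • R) B (g • x) - z) + z := by abel
        rw [h3]
        exact add_mem ((le_sup_left : pU D p (n + 1) ≤ _) h2)
          ((le_sup_right : AddSubgroup.zmultiples z ≤ _) (AddSubgroup.mem_zmultiples z))
    obtain ⟨a, ha, b, hb, hab⟩ := AddSubgroup.mem_sup.1 h1
    obtain ⟨k, hk⟩ := AddSubgroup.mem_zmultiples_iff.1 hb
    have h2z : (2 : ℤ) • z = 0 := by
      have := hz.two
      rw [two_nsmul] at this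
      rw [two_zsmul, this]
    rcases Int.even_or_odd' k with ⟨j, hj | hj⟩
    · left
      have : b = 0 := by rw [← hk, hj, mul_comm, mul_smul, h2z, smul_zero]
      rw [← hab, this, add_zero]
      exact ha
    · right
      refine ⟨hp2, z, hz, ?_⟩
      have : b = z := by rw [← hk, hj, add_smul, mul_comm, mul_smul, h2z, smul_zero, zero_add, one_smul]
      rw [← hab, this, add_sub_cancel_right]
      exact ha
  · left
    apply nm_mem_of_double hRP hBP hx
    intro g hg
    rcases hterm g hg with h2 | ⟨h3, z', hz', -⟩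
    · exact h2
    · exact absurd ⟨h3, z', hz'⟩ hz

end norm

/-! ### the step for `p` odd and the filtration argument -/

section steps

variable [Finite G] [Finite D] {p : ℕ} [hp : Fact p.Prime] {T X : Subgroup G} {Qf : Subgroup G → Prop}
  {M0 : Subgroup G → AddSubgroup D}

theorem exists_minimal {P : Subgroup G} (hP : Qf P) : ∃ B ≤ P, Qf B ∧ ∀ B', B' < B → ¬ Qf B' := by
  obtain ⟨B, hBP, hB⟩ := (Set.toFinite {B : Subgroup G | Qf B}).exists_le_minimal hP
  exact ⟨B, hBP, hB.1, fun B' hlt hB' => hlt.not_ge (hB.2 hB' hlt.le)⟩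

theorem conj_smul_T {t : G} (ht : t ∈ T) : MulAut.conj t • T = T := by
  apply le_antisymm
  · intro x hx
    rw [Subgroup.mem_pointwise_smul_iff_inv_smul_mem] at hx
    have h1 : t⁻¹ * x * t ∈ T := by simpa [mul_assoc] using hx
    have : x = t * (t⁻¹ * x * t) * t⁻¹ := by group
    rw [this]
    exact mul_mem (mul_mem ht h1) (inv_mem ht)
  · intro x hx
    rw [Subgroup.mem_pointwise_smul_iff_inv_smul_mem]
    have : t⁻¹ * x * t ∈ T := mul_mem (mul_mem (inv_mem ht) hx) ht
    simpa [mul_assoc] using this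

/-- LOCAL THEOREM from the step -/
theorem local_of_step (h : Loc p T X Qf M0)
    (hstep : ∀ (n : ℕ) (e : G → D), IsCo T Qf M0 (pU D p n) e → ∃ u : D, u ∈ (Fx T : AddSubgroup D) ∧
      u ∈ pU D p n ∧ ∀ a : G, Qf (T ⊓ MulAut.conj a • T) → e a - (a • u - u) ∈
        M0 (T ⊓ MulAut.conj a • T) ⊔ (pU D p (n + 1) ⊓ Fx (T ⊓ MulAut.conj a • T)))
    (e : G → D) (he : IsCo T Qf M0 ⊤ e) :
    ∃ u : D, u ∈ (Fx T : AddSubgroup D) ∧
      ∀ a : G, Qf (T ⊓ MulAut.conj a • T) → e a - (a • u - u) ∈ M0 (T ⊓ MulAut.conj a • T) := by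
  classical
  have key : ∀ n : ℕ, ∃ (u : D) (w : G → D), u ∈ (Fx T : AddSubgroup D) ∧ IsCo T Qf M0 (pU D p n) w ∧
      ∀ a : G, Qf (T ⊓ MulAut.conj a • T) → e a - (a • u - u) - w a ∈ M0 (T ⊓ MulAut.conj a • T) := by
    intro n
    induction n with
    | zero =>
      refine ⟨0, e, zero_mem _, by rw [pU_zero]; exact he, fun a _ => ?_⟩
      rw [smul_zero, sub_zero, sub_zero, sub_self]
      exact zero_mem _
    | succ n ih =>
      obtain ⟨u, w, hu, hw, huw⟩ := ih
      obtain ⟨u1, hu1, -, hw1⟩ := hstep n w hw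
      have hex : ∀ a : G, ∃ w' : D, (Qf (T ⊓ MulAut.conj a • T) → w a - (a • u1 - u1) - w' ∈
          M0 (T ⊓ MulAut.conj a • T) ∧ w' ∈ pU D p (n + 1) ∧ w' ∈ (Fx (T ⊓ MulAut.conj a • T) : AddSubgroup D)) := by
        intro a
        by_cases ha : Qf (T ⊓ MulAut.conj a • T)
        · obtain ⟨m, hm, w', hw', hmw⟩ := AddSubgroup.mem_sup.1 (hw1 a ha)
          refine ⟨w', fun _ => ⟨?_, hw'.1, hw'.2⟩⟩
          rw [← hmw, add_sub_cancel_right]
          exact hm
        · exact ⟨0, fun h0 => absurd h0 ha⟩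
      choose w' hw' using hex
      refine ⟨u + u1, w', add_mem hu hu1, ⟨?_, ?_, ?_⟩, ?_⟩
      · intro a ha
        exact ⟨(hw' a ha).2.2, (hw' a ha).2.1⟩
      · intro a b P hP hPa hPab
        obtain ⟨hXP, hPT⟩ := h.q_le P hP
        have hRa : Qf (T ⊓ MulAut.conj a • T) := h.q_up _ _ hP (le_inf hPT hPa) inf_le_left
        have hRab : Qf (T ⊓ MulAut.conj (a * b) • T) := h.q_up _ _ hP (le_inf hPT hPab) inf_le_left
        -- `P' = a⁻¹ P a`
        set P' := MulAut.conj a⁻¹ • P with hP'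
        have hPP' : MulAut.conj a • P' = P := by
          rw [hP', map_inv, smul_inv_smul]
        have hP'T : P' ≤ T := by
          intro x hx
          rw [hP', Subgroup.mem_pointwise_smul_iff_inv_smul_mem] at hx
          have h1 := hPa hx
          rw [Subgroup.mem_pointwise_smul_iff_inv_smul_mem] at h1
          simpa [mul_assoc] using h1
        have hP'b : P' ≤ MulAut.conj b • T := by
          intro x hx
          rw [hP', Subgroup.mem_pointwise_smul_iff_inv_smul_mem] at hx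
          have h1 := hPab hx
          rw [Subgroup.mem_pointwise_smul_iff_inv_smul_mem] at h1 ⊢
          simpa [mul_assoc] using h1
        have hP'Q : Qf P' := h.q_conj a⁻¹ P hP hP'T
        have hRb : Qf (T ⊓ MulAut.conj b • T) := h.q_up _ _ hP'Q (le_inf hP'T hP'b) inf_le_left
        have hXP' := (h.q_le P' hP'Q).1
        have e1 := h.m1 P _ hXP (le_inf hPT hPa) inf_le_left (hw' a hRa).1
        have e2 := h.m1 P _ hXP (le_inf hPT hPab) inf_le_left (hw' (a * b) hRab).1
        have e3 := h.m1 P' _ hXP' (le_inf hP'T hP'b) inf_le_left (hw' b hRb).1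
        have e4 : a • (w b - (b • u1 - u1) - w' b) ∈ M0 P := by
          have := h.m2 a P' hXP' hP'T (by rw [hPP']; exact hPT) _ e3
          rwa [hPP'] at this
        have e5 := hw.co a b P hP hPa hPab
        have e6 : w' (a * b) - (w' a + a • w' b) = (w (a * b) - (w a + a • w b)) -
            (w (a * b) - ((a * b) • u1 - u1) - w' (a * b)) + (w a - (a • u1 - u1) - w' a) +
            a • (w b - (b • u1 - u1) - w' b) := by
          rw [smul_sub, smul_sub, smul_sub, mul_smul]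
          abel
        rw [e6]
        exact add_mem (add_mem (sub_mem e5 e2) e1) e4
      · intro t ht hT
        have hTt : T ⊓ MulAut.conj t • T = T := by rw [conj_smul_T ht, inf_idem]
        have e1 := (hw' t (by rw [hTt]; exact hT)).1
        rw [hTt, hu1 t ht, sub_self, sub_zero] at e1
        have e2 := hw.tr t ht hT
        have : w' t = w t - (w t - w' t) := by abel
        rw [this]
        exact sub_mem e2 e1
      · intro a ha
        have e1 := huw a ha
        have e2 := (hw' a ha).1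
        have : e a - (a • (u + u1) - (u + u1)) - w' a =
            (e a - (a • u - u) - w a) + (w a - (a • u1 - u1) - w' a) := by
          rw [smul_add]; abel
        rw [this]
        exact add_mem e1 e2
  -- `p ^ n D = 0` for some `n`
  obtain ⟨n, hn⟩ : ∃ n : ℕ, ∀ d : D, p ^ n • d = 0 := by
    choose k hk using h.D_p
    obtain ⟨n, hn⟩ := (Set.finite_range k).bddAbove
    refine ⟨n, fun d => ?_⟩
    have h1 : k d ≤ n := hn ⟨d, rfl⟩
    obtain ⟨j, hj⟩ := Nat.exists_eq_add_of_le h1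
    rw [hj, pow_add, mul_comm, mul_smul, hk d, smul_zero]
  obtain ⟨u, w, hu, hw, huw⟩ := key n
  refine ⟨u, hu, fun a ha => ?_⟩
  have h1 := (hw.mem a ha).2
  obtain ⟨d, hd⟩ := mem_pU.1 h1
  have h2 := huw a ha
  rwa [← hd, hn d, sub_zero] at h2

end steps

end Cfsg.Agent.H258.FX
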