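import Cfsg.Agent.H258.FX.Filt
import Cfsg.Agent.H45.FX.Trans

/-!
# S5242, local theorem, L2: the step for `p` odd (helper258)
-/

set_option autoImplicit false
set_option linter.unusedSectionVars false

namespace Cfsg.Agent.H258.FX

open Pointwise
open Cfsg.Agent.H45.FX

variable {G : Type*} [Group G] {D : Type*} [AddCommGroup D] [DistribMulAction G D]

section steps

variable [Finite G] [Finite D] {p : ℕ} [hp : Fact p.Prime] {T X : Subgroup G} {Qf : Subgroup G → Prop}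
  {M0 : Subgroup G → AddSubgroup D}

/-- STEP, `p` odd -/
theorem step_odd (hp2 : p ≠ 2) (h : Loc p T X Qf M0) (hH : HypH D p X Qf) (n : ℕ) (e : G → D)
    (he : IsCo T Qf M0 (pU D p n) e) :
    ∃ u : D, u ∈ (Fx T : AddSubgroup D) ∧ u ∈ pU D p n ∧
      ∀ a : G, Qf (T ⊓ MulAut.conj a • T) → e a - (a • u - u) ∈
        M0 (T ⊓ MulAut.conj a • T) ⊔ (pU D p (n + 1) ⊓ Fx (T ⊓ MulAut.conj a • T)) := by
  -- `m` with `m |G : T| ≡ 1` modulo `p`
  obtain ⟨m, k, hmk⟩ : ∃ m k : ℤ, m * T.index - 1 = k * p := by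
    have h1 : IsCoprime (T.index : ℤ) (p : ℤ) := by
      rw [Nat.isCoprime_iff_coprime]
      exact ((Nat.Prime.coprime_iff_not_dvd hp.out).2 h.T_ind).symm
    obtain ⟨a, b, hab⟩ := h1
    exact ⟨a, -b, by linarith⟩
  refine lemmaM T X h.X_norm h.X_le Qf (fun R hR => (h.q_le R hR).2) h.q_up h.q_conj (pU D p n)
    (fun g x hx => pU_smul g hx) (fun R => M0 R ⊔ (pU D p (n + 1) ⊓ Fx R)) ?_ ?_ ?_ ?_ m ?_ e ?_
  · intro R R' hR hRR' hR'
    exact sup_le_sup (h.m1 R R' (h.q_le R hR).1 hRR' hR') (inf_le_inf_left _ (Fx_anti hRR'))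
  · intro g R hR hgR x hx
    obtain ⟨a, ha, b, hb, rfl⟩ := AddSubgroup.mem_sup.1 hx
    obtain ⟨h1, h2⟩ := h.q_le R hR
    rw [smul_add]
    exact add_mem ((le_sup_left : M0 _ ≤ _) (h.m2 g R h1 h2 hgR a ha))
      ((le_sup_right : pU D p (n + 1) ⊓ Fx _ ≤ _) ⟨pU_smul g hb.1, smul_mem_Fx hb.2 g⟩)
  · intro R P hR hRP hPT x hx
    obtain ⟨a, ha, b, hb, rfl⟩ := AddSubgroup.mem_sup.1 hx
    rw [nm_add]
    exact add_mem ((le_sup_left : M0 _ ≤ _) (h.m3 R P (h.q_le R hR).1 hRP hPT a ha))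
      ((le_sup_right : pU D p (n + 1) ⊓ Fx _ ≤ _)
        ⟨nm_mem_of_stable (fun g _ x hx => pU_smul g hx) hb.1, nm_mem_Fx hRP hb.2⟩)
  · intro R P hXR hRP hR hP x hxU hx
    obtain ⟨B, hBP, hB, hBm⟩ := exists_minimal hP
    rcases norm_lemma h hH n hXR hRP hR hP hxU hx hBP hB hBm with h1 | ⟨h1, -⟩
    · exact (le_sup_right : pU D p (n + 1) ⊓ Fx _ ≤ _) ⟨h1, nm_mem_Fx hRP hx⟩
    · exact absurd h1 hp2
  · intro P hP x hxU hx
    have h1 : (m * T.index) • x - x = k • (p • x) := by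
      have : (m * T.index) • x - x = (m * T.index - 1) • x := by rw [sub_smul, one_smul]
      rw [this, hmk, mul_smul, natCast_zsmul]
    rw [h1]
    obtain ⟨h2, h3⟩ := h.q_le P hP
    exact zsmul_mem ((le_sup_left : M0 _ ≤ _) (h.m4 P h2 h3 x hx)) k
  · refine ⟨he.mem, fun a b P h1 h2 h3 => ?_, fun t ht hT => ?_⟩
    · exact (le_sup_left : M0 _ ≤ _) (he.co a b P h1 h2 h3)
    · exact (le_sup_left : M0 _ ≤ _) (he.tr t ht hT)

/-- LOCAL THEOREM, `p` odd -/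
theorem local_odd (hp2 : p ≠ 2) (h : Loc p T X Qf M0) (hH : HypH D p X Qf) (e : G → D) (he : IsCo T Qf M0 ⊤ e) :
    ∃ u : D, u ∈ (Fx T : AddSubgroup D) ∧
      ∀ a : G, Qf (T ⊓ MulAut.conj a • T) → e a - (a • u - u) ∈ M0 (T ⊓ MulAut.conj a • T) :=
  local_of_step h (fun n e he => step_odd hp2 h hH n e he) e he

end steps

end Cfsg.Agent.H258.FX
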